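import Groth.Agent.L28.Strata.Basic
import Mathlib.AlgebraicGeometry.Noetherian
import Mathlib.AlgebraicGeometry.FunctionField
import Mathlib.Topology.NoetherianSpace

/-!
Stratifications by Noetherian induction.
-/

set_option autoImplicit false

universe u

open CategoryTheory CategoryTheory.Limits AlgebraicGeometry TopologicalSpace Topology

namespace Groth.L28.Noeth

variable {X : Scheme.{u}} [IsNoetherian X]

theorem isNoetherian_immersion {T : Scheme.{u}} (g : T ⟶ X) [IsImmersion g] : IsNoetherian T := by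
  haveI : IsLocallyNoetherian T := LocallyOfFiniteType.isLocallyNoetherian g
  haveI : CompactSpace T := ⟨g.isEmbedding.isCompact_iff.2 (NoetherianSpace.isCompact _)⟩
  constructor

theorem isConstructible_immersion {T : Scheme.{u}} (g : T ⟶ X) [IsImmersion g] :
    IsConstructible (Set.range g) := by
  obtain ⟨O, Z, hO, hZ, e⟩ := g.isLocallyClosed_range
  have hret : ∀ s : Set X, IsRetrocompact s := fun s _ _ _ => NoetherianSpace.isCompact _
  rw [e, ← compl_compl Z]
  exact ((hret O).isConstructible hO).inter (((hret _).isConstructible hZ.isOpen_compl).compl)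

/-- a property holding generically on every irreducible piece stratifies -/
theorem strat_of_generic {P : Strata.SPred X} (hP : Strata.Stable P)
    (hgen : ∀ (T : Scheme.{u}) (g : T ⟶ X) [IsImmersion g] [IsNoetherian T] [IrreducibleSpace T],
      ∃ O : T.Opens, genericPoint T ∈ O ∧ P (O.ι ≫ g)) :
    Strata.Strat X P := by
  let Good : Set X → Prop := fun s => ∃ (m : ℕ) (T : Fin m → Scheme.{u}) (g : ∀ i, T i ⟶ X),
    (∀ i, IsImmersion (g i) ∧ IsConstructible (Set.range (g i)) ∧ P (g i)) ∧ s ⊆ ⋃ i, Set.range (g i)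
  suffices h : ∀ Z : Closeds X, Good Z by
    obtain ⟨m, T, g, hg, hcov⟩ := h ⊤
    exact Strata.strat_of_pieces hP g (fun i => (hg i).1) (fun i => (hg i).2.1)
      (Set.eq_univ_of_univ_subset hcov) (fun i => (hg i).2.2)
  intro Z
  induction Z using WellFoundedLT.induction with
  | ind Z ih =>
    rcases (Z : Set X).eq_empty_or_nonempty with hZ | ⟨z, hz⟩
    · exact ⟨0, Fin.elim0, fun i => i.elim0, fun i => i.elim0, by rw [hZ]; exact Set.empty_subset _⟩
    obtain ⟨T0, i0, hi0, hr0⟩ := Strata.exists_immersion ⊤ Z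
    rw [TopologicalSpace.Opens.coe_top, Set.univ_inter] at hr0
    haveI : IsNoetherian T0 := isNoetherian_immersion i0
    obtain ⟨t₀, -⟩ := (show z ∈ Set.range i0 from hr0.symm ▸ hz)
    obtain ⟨O, hO, hne, hOZ⟩ := NoetherianSpace.exists_isOpen_nonempty_subset_irreducibleComponent
      (irreducibleComponent t₀) (irreducibleComponent_mem_irreducibleComponents _)
    let W : T0.Opens := ⟨O, hO⟩
    haveI : IrreducibleSpace W :=
      Subtype.irreducibleSpace ⟨hne, isIrreducible_irreducibleComponent.2.open_subset hO hOZ⟩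
    haveI : IsNoetherian (W : Scheme.{u}) := isNoetherian_immersion (W.ι ≫ i0)
    obtain ⟨O', hη, hPO⟩ := hgen W (W.ι ≫ i0)
    let U : T0.Opens := W.ι ''ᵁ O'
    have hcl : IsClosed (i0 '' (U : Set T0)ᶜ) := by
      have hce : IsClosedEmbedding i0 := ⟨i0.isEmbedding, by rw [hr0]; exact Z.isClosed⟩
      exact hce.isClosedMap _ U.2.isClosed_compl
    let Z' : Closeds X := ⟨i0 '' (U : Set T0)ᶜ, hcl⟩
    have hlt : Z' < Z := by
      refine lt_of_le_of_ne (fun y ⟨t, _, ht⟩ => (hr0.le (⟨t, ht⟩ : y ∈ Set.range i0) : y ∈ (Z : Set X))) fun e => ?_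
      have hu : W.ι (genericPoint W) ∈ U := ⟨_, hη, rfl⟩
      obtain ⟨t', ht', htt⟩ : i0 (W.ι (genericPoint W)) ∈ i0 '' (U : Set T0)ᶜ := by
        show _ ∈ (Z' : Set X)
        rw [e, ← hr0]
        exact ⟨_, rfl⟩
      exact ht' (i0.isEmbedding.injective htt ▸ hu)
    obtain ⟨m, T, g, hg, hcov⟩ := ih Z' hlt
    refine ⟨m + 1, Fin.cons (O' : Scheme.{u}) T,
      @Fin.cons m (fun i => (Fin.cons (O' : Scheme.{u}) T : Fin (m + 1) → Scheme.{u}) i ⟶ X) (O'.ι ≫ W.ι ≫ i0) g,
      fun k => ?_, ?_⟩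
    · cases k using Fin.cases with
      | succ k => exact hg k
      | zero =>
        exact ⟨inferInstanceAs (IsImmersion (O'.ι ≫ W.ι ≫ i0)), isConstructible_immersion (O'.ι ≫ W.ι ≫ i0), hPO⟩
    · intro y hy
      obtain ⟨t, rfl⟩ : y ∈ Set.range i0 := hr0.symm ▸ hy
      by_cases ht : t ∈ U
      · obtain ⟨w, hw, rfl⟩ := ht
        exact Set.mem_iUnion.2 ⟨0, ⟨w, hw⟩, rfl⟩
      · obtain ⟨k, s, hs⟩ := Set.mem_iUnion.1 (hcov ⟨t, ht, rfl⟩)
        exact Set.mem_iUnion.2 ⟨k.succ, s, hs⟩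

end Groth.L28.Noeth
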