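import Groth.Agent.L28.Noeth.Sub
import Groth.Agent.L28.Noeth.Strat
import Groth.Agent.L28.Lisse.Main

/-!
Constructible sheaves of modules on Noetherian schemes are Noetherian objects.
-/

set_option autoImplicit false

universe u

open CategoryTheory CategoryTheory.Limits AlgebraicGeometry Opposite

set_option backward.isDefEq.respectTransparency.types false

namespace Groth.L28.Noeth

variable {Λ : Type (u + 1)} [CommRing Λ] [IsNoetherianRing Λ] {X : Scheme.{u}} [AlgebraicGeometry.IsNoetherian X]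
  {F : EtModW.Mod Λ X} (hF : EtModW.IsConstructible Λ F)

omit [IsNoetherianRing Λ] [AlgebraicGeometry.IsNoetherian X] in
theorem ftPred_factor {T T' : Scheme.{u}} (G : EtModW.Mod Λ X) (g : T ⟶ X) (k : T' ⟶ T) (g' : T' ⟶ X)
    (e : k ≫ g = g') (h : EtModW.IsFTLocConst Λ ((EtModW.pull Λ k).obj ((EtModW.pull Λ g).obj G))) :
    Strata.ftPred G g' :=
  e ▸ (Strata.ftPred_comp G g k).1 h

omit [IsNoetherianRing Λ] [AlgebraicGeometry.IsNoetherian X] in
include hF in
/-- a constructible sheaf is lisse near the generic point of an irreducible subscheme -/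
theorem exists_generic_lisse {T : Scheme.{u}} (g : T ⟶ X) [AlgebraicGeometry.IsNoetherian T] [IrreducibleSpace T] :
    ∃ W : T.Opens, ∃ (_ : IrreducibleSpace W) (_ : IsLocallyNoetherian (W : Scheme.{u})),
      W.ι (genericPoint W) = genericPoint T ∧
        EtModW.IsFTLocConst Λ ((EtModW.pull Λ W.ι).obj ((EtModW.pull Λ g).obj F)) := by
  obtain ⟨W, hη, h⟩ := Lisse.exists_open_isFTLocConst (Strata.isConstructibleMod_pull g hF)
  haveI : Nonempty W := ⟨⟨_, hη⟩⟩
  haveI : IrreducibleSpace W := W.ι.isOpenEmbedding.irreducibleSpace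
  exact ⟨W, inferInstance, inferInstance, genericPoint_eq_of_isOpenImmersion W.ι, h⟩

include hF in
/-- subsheaves of constructible sheaves are constructible -/
theorem isConstructible_sub {G : EtModW.Mod Λ X} (b : G ⟶ F) [Mono b] : EtModW.IsConstructible Λ G := by
  rw [Strata.isConstructibleMod_iff, Strata.loc_iff_strat (Strata.stable_ftPred G)]
  refine strat_of_generic (Strata.stable_ftPred G) fun T g _ _ _ => ?_
  obtain ⟨W, _, _, hW, h⟩ := exists_generic_lisse hF g
  haveI := Strata.mono_pullMod_map (Λ := Λ) g b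
  haveI := Strata.mono_pullMod_map (Λ := Λ) W.ι ((EtModW.pull Λ g).map b)
  obtain ⟨O, hη, hO⟩ := exists_open_sub ((EtModW.pull Λ W.ι).map ((EtModW.pull Λ g).map b)) h
  refine ⟨W.ι ''ᵁ O, ⟨_, hη, hW⟩, ?_⟩
  refine ftPred_factor G g (W.ι ''ᵁ O).ι _ rfl ?_
  refine ftPred_factor ((EtModW.pull Λ g).obj G) (O.ι ≫ W.ι) (W.ι.isoImage O).inv _ ?_ ?_
  · rw [Iso.inv_comp_eq, Scheme.Hom.isoImage_hom_ι]
  · exact LocConst.isFTLocConst_pull _ _ ((Strata.ftPred_comp ((EtModW.pull Λ g).obj G) W.ι O.ι).1 hO)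

include hF in
/-- quotients of constructible sheaves are constructible -/
theorem isConstructible_quot {Q : EtModW.Mod Λ X} (π : F ⟶ Q) [Epi π] : EtModW.IsConstructible Λ Q := by
  refine Strata.isConstructibleMod_of_iso ?_
    (Strata.isConstructibleMod_kernel_cokernel (kernel.ι π) (isConstructible_sub hF (kernel.ι π)) hF).2
  exact IsColimit.coconePointUniqueUpToIso (colimit.isColimit _) (Abelian.epiIsCokernelOfKernel _ (limit.isLimit _))

omit [IsNoetherianRing Λ] [AlgebraicGeometry.IsNoetherian X] in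
theorem isIso_pull_comp {A B : EtModW.Mod Λ X} (φ : A ⟶ B) {T T' : Scheme.{u}} (k : T' ⟶ T) (g : T ⟶ X)
    (h : IsIso ((EtModW.pull Λ g).map φ)) : IsIso ((EtModW.pull Λ (k ≫ g)).map φ) :=
  ((MorphismProperty.isomorphisms _).arrow_mk_iso_iff
    (((Functor.mapArrowFunctor _ _).mapIso (Strata.pullCompMod k g)).app (Arrow.mk φ))).2
      (Functor.map_isIso (EtModW.pull Λ k) ((EtModW.pull Λ g).map φ))

omit [IsNoetherianRing Λ] [AlgebraicGeometry.IsNoetherian X] in
/-- isomorphisms are detected on the strata -/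
theorem isIso_of_strata {A B : EtModW.Mod Λ X} (φ : A ⟶ B) {ι : Type*} (T : ι → Scheme.{u}) (g : ∀ i, T i ⟶ X)
    (hcov : ∀ x, ∃ i, x ∈ Set.range (g i))
    (h : ∀ i, IsIso ((EtModW.pull Λ (g i)).map φ)) : IsIso φ := by
  have hb : ∀ x : X, ∃ (Ω : Type u) (_ : Field Ω) (_ : IsSepClosed Ω) (ξ : Spec (CommRingCat.of Ω) ⟶ X),
      ξ.base default = x ∧ Function.Bijective ((EtModW.stalk Λ ξ).map φ) := by
    intro x
    obtain ⟨i, t, rfl⟩ := hcov x
    obtain ⟨Ω, _, _, ξ, hξ⟩ := Groth.L27.EtSite.exists_geometric_point t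
    refine ⟨Ω, inferInstance, inferInstance, ξ ≫ g i, by rw [← hξ]; rfl, ?_⟩
    have h1 : IsIso ((EtModW.pull Λ (g i) ⋙ EtModW.stalk Λ ξ).map φ) :=
      @Functor.map_isIso _ _ _ _ _ _ (EtModW.stalk Λ ξ) _ (h i)
    exact (ConcreteCategory.isIso_iff_bijective _).1 (((MorphismProperty.isomorphisms _).arrow_mk_iso_iff
      (((Functor.mapArrowFunctor _ _).mapIso (EtModStalk.stalkPullModIso (g i) ξ)).app (Arrow.mk φ))).1 h1)
  refine (Sheaf.isLocallyBijective_iff_isIso _).1
    ⟨Groth.L27.EtSite.isLocallyInjective_of_some_stalks _ fun y => ?_,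
      Groth.L27.EtSite.isLocallySurjective_of_some_stalks _ fun y => ?_⟩
  · obtain ⟨Ω, h1, h2, ξ, hξ, h⟩ := hb y; exact ⟨Ω, h1, h2, ξ, hξ, h.1⟩
  · obtain ⟨Ω, h1, h2, ξ, hξ, h⟩ := hb y; exact ⟨Ω, h1, h2, ξ, hξ, h.2⟩

include hF in
/-- increasing sequences of subsheaves of a constructible sheaf are stationary -/
theorem exists_stationary (G : ℕ → EtModW.Mod Λ X) (i : ∀ k, G k ⟶ G (k + 1)) (b : ∀ k, G k ⟶ F) [∀ k, Mono (b k)]
    (hib : ∀ k, i k ≫ b (k + 1) = b k) : ∃ k₀, ∀ k, k₀ ≤ k → IsIso (i k) := by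
  let P : Strata.SPred X := fun T g => ∃ k₀, ∀ k, k₀ ≤ k → IsIso ((EtModW.pull Λ g).map (i k))
  have hP : Strata.Stable P := fun T T' h g ⟨k₀, hk⟩ => ⟨k₀, fun k hle => isIso_pull_comp (i k) h g (hk k hle)⟩
  obtain ⟨n, T, g, h1, -, -, h4, h5⟩ := strat_of_generic hP fun T g _ _ _ => by
    obtain ⟨W, _, _, hW, h⟩ := exists_generic_lisse hF g
    haveI : ∀ k, Mono ((EtModW.pull Λ W.ι).map ((EtModW.pull Λ g).map (b k))) := fun k =>
      @Strata.mono_pullMod_map Λ _ _ _ W.ι _ _ _ (Strata.mono_pullMod_map g (b k))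
    obtain ⟨O, k₀, hη, hO⟩ := exists_open_stationary h (fun k => (EtModW.pull Λ W.ι).obj ((EtModW.pull Λ g).obj (G k)))
      (fun k => (EtModW.pull Λ W.ι).map ((EtModW.pull Λ g).map (i k)))
      (fun k => (EtModW.pull Λ W.ι).map ((EtModW.pull Λ g).map (b k)))
      (fun k => by rw [← Functor.map_comp, ← Functor.map_comp, hib])
    refine ⟨W.ι ''ᵁ O, ⟨_, hη, hW⟩, k₀, fun k hk => ?_⟩
    have e : (W.ι.isoImage O).inv ≫ O.ι ≫ W.ι = (W.ι ''ᵁ O).ι := by
      rw [Iso.inv_comp_eq, Scheme.Hom.isoImage_hom_ι]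
    have h2 : IsIso ((EtModW.pull Λ ((O.ι ≫ W.ι) ≫ g)).map (i k)) := by
      refine ((MorphismProperty.isomorphisms _).arrow_mk_iso_iff
        (((Functor.mapArrowFunctor _ _).mapIso (Strata.pullCompMod (O.ι ≫ W.ι) g)).app (Arrow.mk (i k)))).2 ?_
      exact ((MorphismProperty.isomorphisms _).arrow_mk_iso_iff
        (((Functor.mapArrowFunctor _ _).mapIso (Strata.pullCompMod O.ι W.ι)).app
          (Arrow.mk ((EtModW.pull Λ g).map (i k))))).2 (hO k hk)
    have h3 := isIso_pull_comp (i k) (W.ι.isoImage O).inv _ h2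
    rwa [← Category.assoc, e] at h3
  choose k₀ hk₀ using h5
  refine ⟨Finset.univ.sup k₀, fun k hk => ?_⟩
  exact isIso_of_strata (i k) T g (fun x => Set.mem_iUnion.1 (h4.symm ▸ Set.mem_univ x : x ∈ ⋃ i, Set.range (g i)))
    fun j => hk₀ j k ((Finset.le_sup (Finset.mem_univ j)).trans hk)

include hF in
theorem isNoetherianObject : IsNoetherianObject F := by
  refine (isNoetherianObject_iff_monotone_chain_condition F).2 fun c => ?_
  obtain ⟨k₀, hk⟩ := exists_stationary hF (fun k => (Subobject.underlying.obj (c k) : EtModW.Mod Λ X))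
    (fun k => Subobject.ofLE _ _ (c.monotone (Nat.le_succ k))) (fun k => (c k).arrow) (fun k => Subobject.ofLE_arrow _)
  refine ⟨k₀, fun m hm => ?_⟩
  induction m, hm using Nat.le_induction with
  | base => rfl
  | succ m hm ih =>
    haveI := hk m hm
    exact ih.trans (Subobject.eq_of_comm (asIso (Subobject.ofLE _ _ (c.monotone (Nat.le_succ m))))
      (Subobject.ofLE_arrow _))

end Groth.L28.Noeth
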