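import Groth.Agent.L28.Transfer.Adic
import Groth.Agent.L28.AR.Cat
import Groth.Agent.L28.AR.Chain
import Groth.Agent.L28.AR.MapFunctor
import Groth.Agent.S13621

/-!
Systems of constructible sheaves of modules adic up to translation.
-/

set_option autoImplicit false

universe u

open CategoryTheory CategoryTheory.Limits AlgebraicGeometry Opposite

set_option backward.isDefEq.respectTransparency.types false

namespace Groth.L28.Noeth

open Groth.L28.Elt Groth.L28.AR

variable {Λ : Type (u + 1)} [CommRing Λ] [IsNoetherianRing Λ] {I : Ideal Λ} {X : Scheme.{u}}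
  [AlgebraicGeometry.IsNoetherian X]

theorem isAdicNoeth {F : ARSys.PS (EtModW.Mod Λ X)} (hF : ARSys.IsAdic I F)
    (hc : ∀ n : ℕ, EtModW.IsConstructible Λ (F.obj (op n))) : ARSys.IsAdicNoeth I F :=
  ⟨hF, fun n => isNoetherianObject (hc n)⟩

theorem isARAdicNoeth {F : ARSys.PS (EtModW.Mod Λ X)} (hF : ARSys.IsAdic I F)
    (hc : ∀ n : ℕ, EtModW.IsConstructible Λ (F.obj (op n))) : ARSys.IsARAdicNoeth I F :=
  ⟨⟨hF.1, F, 𝟙 F, hF, isARIso_id F⟩, fun n => isNoetherianObject (hc n)⟩

/-- the adic model of a system of constructible sheaves is constructible -/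
theorem isConstructible_model {F Y : ARSys.PS (EtModW.Mod Λ X)}
    (hc : ∀ n : ℕ, EtModW.IsConstructible Λ (F.obj (op n))) (hY : ARSys.IsAdic I Y) {v : Y ⟶ F}
    (hv : ARSys.IsARIso v) (n : ℕ) : EtModW.IsConstructible Λ (Y.obj (op n)) := by
  obtain ⟨r, ψ, hψ⟩ := exists_isInv hv
  haveI : Epi (ψ 0) := epi_iff.2 fun y => by
    obtain ⟨y', rfl⟩ := strict_surj (adic_strict hY) (Nat.le_add_right 0 r) y
    exact ⟨_, hψ.1 0 y'⟩
  exact Transfer.isConstructible_adic hY (isConstructible_quot (hc (0 + r)) (ψ 0)) n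

/-- adic up to translation with constructible components -/
theorem exists_constructible_model {F : ARSys.PS (EtModW.Mod Λ X)}
    (hc : ∀ n : ℕ, EtModW.IsConstructible Λ (F.obj (op n))) (h : ARSys.IsARAdic I F) :
    ARSys.TermKilled I F ∧ ∃ (Y : ARSys.PS (EtModW.Mod Λ X)) (v : Y ⟶ F), ARSys.IsAdic I Y ∧
      (∀ n : ℕ, EtModW.IsConstructible Λ (Y.obj (op n))) ∧ ARSys.IsARIso v := by
  obtain ⟨hk, Y, v, hY, hv⟩ := h
  exact ⟨hk, Y, v, hY, isConstructible_model hc hY hv, hv⟩

theorem isConstructible_kernel_app {F G : ARSys.PS (EtModW.Mod Λ X)} (w : F ⟶ G)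
    (hF : ∀ n : ℕ, EtModW.IsConstructible Λ (F.obj (op n))) (n : ℕ) :
    EtModW.IsConstructible Λ ((kernel w).obj (op n)) :=
  haveI := app_mono (kernel.ι w) n
  isConstructible_sub (hF n) ((kernel.ι w).app (op n))

theorem isConstructible_cokernel_app {F G : ARSys.PS (EtModW.Mod Λ X)} (w : F ⟶ G)
    (hG : ∀ n : ℕ, EtModW.IsConstructible Λ (G.obj (op n))) (n : ℕ) :
    EtModW.IsConstructible Λ ((cokernel w).obj (op n)) :=
  haveI := app_epi (cokernel.π w) n
  isConstructible_quot (hG n) ((cokernel.π w).app (op n))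

theorem exists_model_kernel_cokernel {F G : ARSys.PS (EtModW.Mod Λ X)} (hF : ARSys.IsAdic I F)
    (hG : ARSys.IsAdic I G) (hFc : ∀ n : ℕ, EtModW.IsConstructible Λ (F.obj (op n)))
    (hGc : ∀ n : ℕ, EtModW.IsConstructible Λ (G.obj (op n))) (w : F ⟶ G) :
    ARSys.IsARAdic I (kernel w) ∧ ARSys.IsARAdic I (cokernel w) :=
  let h := arAdicNoeth_kernel_cokernel w (isARAdicNoeth hF hFc) (isARAdicNoeth hG hGc)
  ⟨h.1.1, h.2.1⟩

theorem chain_stable {F : ARSys.PS (EtModW.Mod Λ X)} (hF : ARSys.IsAdic I F)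
    (hFc : ∀ n : ℕ, EtModW.IsConstructible Λ (F.obj (op n))) (Z : ℕ →o Subobject F)
    (hZ : ∀ k : ℕ, ARSys.IsARAdic I (Subobject.underlying.obj (Z k) : ARSys.PS (EtModW.Mod Λ X))) :
    ∃ k₀ : ℕ, ∀ k : ℕ, k₀ ≤ k → ARSys.IsARIso (Subobject.ofLE (Z k) (Z (k + 1)) (Z.monotone (Nat.le_succ k))) := by
  choose hk Y v hY hv using hZ
  let W : ℕ → Subobject F := fun k => imageSubobject (v k ≫ (Z k).arrow)
  have mem : ∀ k n t, t ∈ elts (lvl (W k) n) ↔
      ∃ y, ev ((Z k).arrow.app (op n)) (ev ((v k).app (op n)) y) = t := by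
    intro k n t
    have e : ∀ y, ev ((W k).arrow.app (op n)) (ev ((factorThruImageSubobject (v k ≫ (Z k).arrow)).app (op n)) y) =
        ev ((Z k).arrow.app (op n)) (ev ((v k).app (op n)) y) := fun y => by
      rw [← ev_comp, ← NatTrans.comp_app, imageSubobject_arrow_comp, NatTrans.comp_app, ev_comp]
    rw [mem_lvl]
    constructor
    · rintro ⟨z, rfl⟩
      obtain ⟨y, rfl⟩ := app_surj (factorThruImageSubobject (v k ≫ (Z k).arrow)) n z
      exact ⟨y, (e y).symm⟩
    · rintro ⟨y, rfl⟩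
      exact ⟨_, e y⟩
  have hstrict : ∀ k, ARSys.IsStrict (Subobject.underlying.obj (W k) : ARSys.PS (EtModW.Mod Λ X)) := fun k =>
    strict_of_surj fun a b hab z => by
      obtain ⟨y, rfl⟩ := app_surj (factorThruImageSubobject (v k ≫ (Z k).arrow)) a z
      obtain ⟨y', rfl⟩ := strict_surj (adic_strict (hY k)) hab y
      exact ⟨_, (app_tr (factorThruImageSubobject (v k ≫ (Z k).arrow)) hab y').symm⟩
  choose g hg _ using fun k => existsUnique_lift (hv (k + 1)) (hY k) (hY (k + 1)).1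
    (v k ≫ Subobject.ofLE (Z k) (Z (k + 1)) (Z.monotone (Nat.le_succ k)))
  have he : ∀ k n y, ev ((Z k).arrow.app (op n)) (ev ((v k).app (op n)) y) =
      ev ((Z (k + 1)).arrow.app (op n)) (ev ((v (k + 1)).app (op n)) (ev ((g k).app (op n)) y)) := fun k n y => by
    have h := congrArg (fun φ => φ ≫ (Z (k + 1)).arrow) (hg k)
    simp only [Category.assoc, Subobject.ofLE_arrow] at h
    rw [← ev_comp, ← ev_comp, ← ev_comp, ← NatTrans.comp_app, ← NatTrans.comp_app, ← NatTrans.comp_app,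
      h]
  have hm : Monotone W := monotone_nat_of_le_succ fun k => (le_iff_lvl _ _).2 fun n => le_iff'.2 fun t ht => by
    obtain ⟨y, rfl⟩ := (mem k n t).1 ht
    exact (mem (k + 1) n _).2 ⟨_, (he k n y).symm⟩
  obtain ⟨k₀, hk₀⟩ := strict_chain (isAdicNoeth hF hFc) W hm hstrict
  refine ⟨k₀, fun k hle => ?_⟩
  obtain ⟨r, -, hr⟩ := (isARIso_iff_elem (v (k + 1))).1 (hv (k + 1))
  refine (isARIso_iff_elem _).2 ⟨r, fun n x hx => ?_, fun n z => ?_⟩
  · rw [show x = 0 from app_inj (Subobject.ofLE (Z k) (Z (k + 1)) (Z.monotone (Nat.le_succ k))) (n + r)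
      (by rw [hx, map_zero]), map_zero]
  · obtain ⟨y, hy⟩ := hr n z
    have hW : ev ((Z (k + 1)).arrow.app (op n)) (ev ((v (k + 1)).app (op n)) y) ∈ elts (lvl (W k) n) := by
      rw [hk₀ k hle, ← hk₀ (k + 1) (by omega)]
      exact (mem (k + 1) n _).2 ⟨y, rfl⟩
    obtain ⟨y', hy'⟩ := (mem k n _).1 hW
    refine ⟨ev ((v k).app (op n)) y', app_inj (Z (k + 1)).arrow n ?_⟩
    rw [← ev_comp, ← NatTrans.comp_app, Subobject.ofLE_arrow, hy', hy]

theorem isZero_of_stalks {F : EtModW.Mod Λ X}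
    (h : ∀ (Ω : Type u) [Field Ω] [IsSepClosed Ω] (x : Spec (CommRingCat.of Ω) ⟶ X),
      IsZero ((EtModW.stalk Λ x).obj F)) : IsZero F := by
  have hb : ∀ (Ω : Type u) [Field Ω] [IsSepClosed Ω] (x : Spec (CommRingCat.of Ω) ⟶ X),
      Function.Bijective ((EtModW.stalk Λ x).map (0 : F ⟶ F)) := fun Ω _ _ x => by
    haveI := ModuleCat.subsingleton_of_isZero (h Ω x)
    exact ⟨fun a b _ => Subsingleton.elim _ _, fun a => ⟨a, Subsingleton.elim _ _⟩⟩
  haveI : IsIso (0 : F ⟶ F) := (Sheaf.isLocallyBijective_iff_isIso _).1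
    ⟨Groth.L27.EtSite.isLocallyInjective_of_stalks _ fun Ω _ _ x => (hb Ω x).1,
      Groth.L27.EtSite.isLocallySurjective_of_stalks _ fun Ω _ _ x => (hb Ω x).2⟩
  rw [IsZero.iff_id_eq_zero, ← cancel_mono (0 : F ⟶ F), comp_zero, comp_zero]

theorem isARNull_iff_stalks {F : ARSys.PS (EtModW.Mod Λ X)} (h : ARSys.IsARAdic I F) :
    ARSys.IsARNull F ↔ ∀ (Ω : Type u) [Field Ω] [IsSepClosed Ω] (x : Spec (CommRingCat.of Ω) ⟶ X),
      IsZero (limit (F ⋙ EtModW.stalk Λ x)) := by
  constructor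
  · rintro ⟨r, hr⟩ Ω _ _ x
    rw [IsZero.iff_id_eq_zero]
    refine limit.hom_ext fun n => ?_
    obtain ⟨n⟩ := n
    rw [Category.id_comp, zero_comp, ← limit.w (F ⋙ EtModW.stalk Λ x) (homOfLE (Nat.le_add_right n r)).op]
    show limit.π (F ⋙ EtModW.stalk Λ x) (op (n + r)) ≫ (EtModW.stalk Λ x).map (F.map (homOfLE (Nat.le_add_right n r)).op) = 0
    rw [show F.map (homOfLE (Nat.le_add_right n r)).op = 0 from hr n, Functor.map_zero, comp_zero]
  · intro hz
    obtain ⟨-, Y, v, hY, hv⟩ := h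
    have h0 : IsZero (Y.obj (op 0)) := isZero_of_stalks fun Ω _ _ x => by
      have hlim : IsZero (limit (Y ⋙ EtModW.stalk Λ x)) := by
        haveI := Groth.Agent.S13621.result (Functor.whiskerRight v (EtModW.stalk Λ x))
          (isARIso_whiskerRight (EtModW.stalk Λ x) hv)
        exact (hz Ω x).of_iso (asIso (limMap (Functor.whiskerRight v (EtModW.stalk Λ x))))
      have hsurj : ∀ n, Function.Surjective ((EtModW.stalk Λ x).map (ARSys.tr Y (Nat.le_succ n))) := fun n => by
        haveI : Epi (ARSys.tr Y (Nat.le_succ n)) := adic_strict hY _ _ _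
        exact (ModuleCat.epi_iff_surjective _).1 inferInstance
      haveI : Subsingleton ((EtModW.stalk Λ x).obj (Y.obj (op 0))) := subsingleton_of_forall_eq 0 fun t => by
        choose l hl using hsurj
        let s : ∀ n, (EtModW.stalk Λ x).obj (Y.obj (op n)) := fun n => Nat.rec t (fun n s => l n s) n
        have hs : ∀ (a b : ℕ) (hab : a ≤ b), (EtModW.stalk Λ x).map (ARSys.tr Y hab) (s b) = s a := by
          intro a b hab
          induction b, hab using Nat.le_induction with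
          | base => rw [tr_self, CategoryTheory.Functor.map_id]; rfl
          | succ b hab ih =>
            rw [← tr_comp Y hab (Nat.le_succ b), Functor.map_comp, ConcreteCategory.comp_apply]
            exact (congrArg _ (hl b (s b))).trans ih
        let c : Cone (Y ⋙ EtModW.stalk Λ x) :=
          { pt := ModuleCat.of Λ Λ
            π :=
              { app := fun n => ModuleCat.ofHom (LinearMap.toSpanSingleton Λ _ (s n.unop))
                naturality := fun a b f => ModuleCat.hom_ext (LinearMap.ext fun e => by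
                  show e • s b.unop = ((EtModW.stalk Λ x).map (Y.map f)) (e • s a.unop)
                  rw [map_smul]
                  exact congrArg (e • ·) (hs b.unop a.unop (leOfHom f.unop)).symm) } }
        have h1 : c.π.app (op 0) = 0 := by
          rw [← limit.lift_π c (op 0), hlim.eq_of_tgt (limit.lift _ c) 0, zero_comp]
        have h2 := ConcreteCategory.congr_hom h1 (1 : Λ)
        exact (one_smul Λ t).symm.trans h2
      exact ModuleCat.isZero_of_subsingleton _
    have hall : ∀ n, IsZero (Y.obj (op n)) := finiteness_of_adic hY (fun T => IsZero T)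
      (fun f _ hz => IsZero.of_mono f hz) (fun f _ hz => IsZero.of_epi f hz)
      (fun f g hfg h1 h3 => by
        refine IsZero.iff_id_eq_zero _ |>.2 (Groth.L28.Elt.hom_ext fun y => ?_)
        obtain ⟨a, ha⟩ := hfg y (by rw [h3.eq_of_tgt g 0, ev_zero])
        rw [ev_id, ev_zero, ← ha, h1.eq_of_src f 0, ev_zero]) h0
    obtain ⟨r, -, hr⟩ := (isARIso_iff_elem v).1 hv
    refine (AR.isARNull_iff F).2 ⟨r, fun n y => ?_⟩
    obtain ⟨a, ha⟩ := hr n y
    rw [← ha, (hall n).eq_of_src (v.app (op n)) 0, ev_zero]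

end Groth.L28.Noeth
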