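import Groth.Agent.L28.Lisse.Rigid
import Groth.Agent.L28.Pts.EtMod
import Groth.Agent.L28.LocConst.Serre
import Mathlib.AlgebraicGeometry.Noetherian
import Mathlib.AlgebraicGeometry.Morphisms.UniversallyOpen
import Mathlib.CategoryTheory.Functor.OfSequence
import Mathlib.Topology.NoetherianSpace
import Mathlib.Topology.Sober

/-!
Stalk systems of systems of locally constant sheaves are constant on connected Noetherian schemes.
-/

set_option autoImplicit false

universe u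

open CategoryTheory CategoryTheory.Limits AlgebraicGeometry Opposite GrothendieckTopology

set_option backward.isDefEq.respectTransparency.types false

namespace Groth.L28.Noeth

open Groth.L28.LocConst

variable {Λ : Type (u + 1)} [CommRing Λ] {X : Scheme.{u}} {Ω : Type u} [Field Ω] [IsSepClosed Ω]
  {Ω' : Type u} [Field Ω'] [IsSepClosed Ω']

/-- the point under an element of a fibre -/
noncomputable abbrev pt {ξ : Spec (CommRingCat.of Ω) ⟶ X} {U : X.Etale} (y : (Scheme.pointSmallEtale ξ).fiber.obj U) : U.left :=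
  y.left.base (default : Spec (CommRingCat.of Ω))

theorem exists_fiber_over {ξ : Spec (CommRingCat.of Ω) ⟶ X} {U V : X.Etale} (g : V ⟶ U)
    (y : (Scheme.pointSmallEtale ξ).fiber.obj U) (z : V.left) (hz : g.left.base z = pt y) :
    ∃ y' : (Scheme.pointSmallEtale ξ).fiber.obj V, (Scheme.pointSmallEtale ξ).fiber.map g y' = y ∧ pt y' = z := by
  haveI := Groth.L27.EtSite.etale_left g
  obtain ⟨t, ht⟩ := Groth.L27.EtSite.exists_fiber (X := U.left) y.left (Scheme.Etale.mk g.left) z hz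
  have e : t.left ≫ g.left = y.left := Over.w t
  refine ⟨Over.homMk t.left ?_, ?_, ht⟩
  · refine Eq.trans ?_ (Over.w y)
    show t.left ≫ V.hom = y.left ≫ U.hom
    exact (congrArg (fun k => t.left ≫ k) (MorphismProperty.Over.w g)).symm.trans
      ((Category.assoc _ _ _).symm.trans (congrArg (fun k => k ≫ U.hom) e))
  · exact Over.OverMorphism.ext e

theorem pt_map {ξ : Spec (CommRingCat.of Ω) ⟶ X} {U V : X.Etale} (g : V ⟶ U)
    (y : (Scheme.pointSmallEtale ξ).fiber.obj V) :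
    pt ((Scheme.pointSmallEtale ξ).fiber.map g y) = g.left.base (pt y) :=
  (congrArg (fun k : Spec (CommRingCat.of Ω) ⟶ U.left => k.base (default : Spec (CommRingCat.of Ω)))
    (Groth.L27.EtSite.fiber_map_left g y)).trans (Scheme.Hom.comp_apply _ _ _)

/-- a neighbourhood of two specialising geometric points with a trivialisation -/
structure Nbhd (ξ : Spec (CommRingCat.of Ω) ⟶ X) (ξ' : Spec (CommRingCat.of Ω') ⟶ X) (G : EtModW.Mod Λ X) where
  U : X.Etale
  y : (Scheme.pointSmallEtale ξ).fiber.obj U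
  y' : (Scheme.pointSmallEtale ξ').fiber.obj U
  spec : pt y ⤳ pt y'
  M : ModuleCat.{u + 1} Λ
  fin : Module.Finite Λ M
  α : EtModW.restr Λ G U ≅ (constOver U).obj M

variable {ξ : Spec (CommRingCat.of Ω) ⟶ X} {ξ' : Spec (CommRingCat.of Ω') ⟶ X}

theorem exists_nbhd_zero (hs : ξ.base default ⤳ ξ'.base default) {G : EtModW.Mod Λ X}
    (hG : EtModW.IsFTLocConst Λ G) : Nonempty (Nbhd ξ ξ' G) := by
  obtain ⟨ι, U, hU, h⟩ := hG
  obtain ⟨i, z, hz⟩ := hU (ξ'.base default)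
  haveI : AlgebraicGeometry.Etale (U i).hom := (U i).prop
  obtain ⟨y', hy'⟩ := Groth.L27.EtSite.exists_fiber ξ' (U i) z hz
  obtain ⟨w, hw, hwz⟩ := Flat.generalizingMap (U i).hom (show ξ.base default ⤳ (U i).hom.base z from hz ▸ hs)
  obtain ⟨y, hy⟩ := Groth.L27.EtSite.exists_fiber ξ (U i) w hwz
  obtain ⟨M, _, _, hM, ⟨α⟩⟩ := h i
  exact ⟨⟨U i, y, y', (show pt y = w from hy) ▸ (show pt y' = z from hy') ▸ hw, ModuleCat.of Λ M, hM, α⟩⟩

/-- compatibility of two neighbourhoods along a morphism of sheaves -/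
def Rel {G G' : EtModW.Mod Λ X} (φ : G' ⟶ G) (N : Nbhd ξ ξ' G) (N' : Nbhd ξ ξ' G') : Prop :=
  ∃ (g : N'.U ⟶ N.U) (h : N'.M ⟶ N.M),
    (Scheme.pointSmallEtale ξ).fiber.map g N'.y = N.y ∧ (Scheme.pointSmallEtale ξ').fiber.map g N'.y' = N.y' ∧
      sec N'.α ≫ φ.hom.app (op N'.U) = h ≫ sec N.α ≫ rs G g

theorem exists_nbhd_step {G G' : EtModW.Mod Λ X} (φ : G' ⟶ G) (hG' : EtModW.IsFTLocConst Λ G')
    (N : Nbhd ξ ξ' G) : ∃ N' : Nbhd ξ ξ' G', Rel φ N N' := by
  obtain ⟨ι, U, hU, h⟩ := hG'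
  obtain ⟨i, z, hz⟩ := hU (ξ'.base default)
  obtain ⟨yi, -⟩ := Groth.L27.EtSite.exists_fiber ξ' (U i) z hz
  obtain ⟨⟨W, w⟩, ⟨p, hp⟩, ⟨q, -⟩, -⟩ := IsCofilteredOrEmpty.cone_objs
    ((Scheme.pointSmallEtale ξ').fiber.elementsMk N.U N.y') ((Scheme.pointSmallEtale ξ').fiber.elementsMk (U i) yi)
  obtain ⟨M, _, _, hM, ⟨β⟩⟩ := h i
  let β' := restrIso q β
  obtain ⟨n, m, hm⟩ := Module.Finite.exists_fin (R := Λ) (M := M)
  obtain ⟨V, g, v, hv, hsec⟩ := exists_sec_eq (restrIso p N.α) (fun k => φ.hom.app (op W) (sec β' (m k))) (pt w)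
  obtain ⟨v', hv', hvpt⟩ := exists_fiber_over g w v hv
  have hvN : (Scheme.pointSmallEtale ξ').fiber.map (g ≫ p) v' = N.y' := by
    rw [Functor.map_comp]
    show (Scheme.pointSmallEtale ξ').fiber.map p ((Scheme.pointSmallEtale ξ').fiber.map g v') = _
    rw [hv']
    exact hp
  haveI := Groth.L27.EtSite.etale_left (g ≫ p)
  obtain ⟨z', hz', hzz⟩ := Flat.generalizingMap (g ≫ p).left
    (show pt N.y ⤳ (g ≫ p).left.base (pt v') from by rw [← pt_map, hvN]; exact N.spec)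
  obtain ⟨y, hy, hypt⟩ := exists_fiber_over (g ≫ p) N.y z' hzz
  let γ := restrIso g β'
  let S := sec N.α ≫ rs G (g ≫ p)
  have hinj : Function.Injective S.hom := by
    have h1 := sec_injective (restrIso (g ≫ p) N.α) v
    rw [sec_restrIso] at h1
    exact h1
  have hr : ∀ x, (sec γ ≫ φ.hom.app (op V)) x ∈ LinearMap.range S.hom := by
    intro x
    have hx : x ∈ Submodule.span Λ (Set.range m) := hm ▸ Submodule.mem_top
    induction hx using Submodule.span_induction with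
    | mem x hx =>
      obtain ⟨k, rfl⟩ := hx
      obtain ⟨t, ht⟩ := hsec k
      refine ⟨t, ?_⟩
      have e1 : sec (restrIso g (restrIso p N.α)) t = S t := by
        rw [sec_restrIso, sec_restrIso, Category.assoc]
        show rs G g (rs G p (sec N.α t)) = rs G (g ≫ p) (sec N.α t)
        show G.obj.map g.op (G.obj.map p.op _) = G.obj.map (g ≫ p).op _
        rw [op_comp, G.obj.map_comp]
        rfl
      refine e1.symm.trans (ht.trans ?_)
      show G.obj.map g.op (φ.hom.app (op W) (sec β' (m k))) = φ.hom.app (op V) (sec (restrIso g β') (m k))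
      rw [sec_restrIso g β']
      exact (NatTrans.naturality_apply φ.hom g.op _).symm
    | zero => rw [map_zero]; exact zero_mem _
    | add a b _ _ ha hb => rw [map_add]; exact add_mem ha hb
    | smul c a _ ha => rw [map_smul]; exact Submodule.smul_mem _ c ha
  refine ⟨⟨V, y, v', (show pt y = z' from hypt) ▸ hz', ModuleCat.of Λ M, hM, γ⟩, g ≫ p,
    ModuleCat.ofHom ((LinearEquiv.ofInjective S.hom hinj).symm.toLinearMap ∘ₗ
      (sec γ ≫ φ.hom.app (op V)).hom.codRestrict _ hr), hy, hvN, ConcreteCategory.hom_ext _ _ fun x => ?_⟩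
  exact (congrArg Subtype.val ((LinearEquiv.ofInjective S.hom hinj).apply_symm_apply ⟨_, hr x⟩)).symm

variable {F : ℕᵒᵖ ⥤ EtModW.Mod Λ X}

theorem rel_germ {G G' : EtModW.Mod Λ X} (φ : G' ⟶ G) {N : Nbhd ξ ξ' G} {N' : Nbhd ξ ξ' G'} (h : N'.M ⟶ N.M)
    {Ω₁ : Type u} [Field Ω₁] [IsSepClosed Ω₁] {η : Spec (CommRingCat.of Ω₁) ⟶ X} (g : N'.U ⟶ N.U)
    (z' : (Scheme.pointSmallEtale η).fiber.obj N'.U) (z : (Scheme.pointSmallEtale η).fiber.obj N.U)
    (hz : (Scheme.pointSmallEtale η).fiber.map g z' = z)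
    (e : sec N'.α ≫ φ.hom.app (op N'.U) = h ≫ sec N.α ≫ rs G g) :
    (sec N'.α ≫ (Scheme.pointSmallEtale η).toPresheafFiber N'.U z' G'.obj) ≫ (EtModW.stalk Λ η).map φ =
      h ≫ sec N.α ≫ (Scheme.pointSmallEtale η).toPresheafFiber N.U z G.obj := by
  subst hz
  rw [Category.assoc]
  refine (congrArg (fun k => sec N'.α ≫ k)
    (Point.toPresheafFiber_naturality (Scheme.pointSmallEtale η) φ.hom N'.U z')).trans ?_
  rw [← Category.assoc, e, Category.assoc, Category.assoc]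
  exact congrArg (fun k => h ≫ sec N.α ≫ k) (Point.toPresheafFiber_w (Scheme.pointSmallEtale η) g z' G.obj)

theorem iso_step₁ {C : Type*} [Category C] {P M S S' : C} (h : P ⟶ M) (a : M ⟶ S) (b : M ⟶ S') (ha : IsIso a)
    (hb : IsIso b) : (h ≫ a) ≫ ((@asIso _ _ _ _ a ha).symm ≪≫ @asIso _ _ _ _ b hb).hom = h ≫ b := by
  simp

theorem iso_step₂ {C : Type*} [Category C] {M S S' T : C} (a : M ⟶ S) (b : M ⟶ S') (ha : IsIso a)
    (hb : IsIso b) (k : S' ⟶ T) : a ≫ ((@asIso _ _ _ _ a ha).symm ≪≫ @asIso _ _ _ _ b hb).hom ≫ k = b ≫ k := by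
  simp

theorem nonempty_iso_of_specializes (hs : ξ.base default ⤳ ξ'.base default)
    (hF : ∀ n : ℕ, EtModW.IsFTLocConst Λ (F.obj (op n))) :
    Nonempty ((F ⋙ EtModW.stalk Λ ξ) ≅ (F ⋙ EtModW.stalk Λ ξ')) := by
  classical
  choose step hstep using fun n (N : Nbhd ξ ξ' (F.obj (op n))) =>
    exists_nbhd_step (F.map (homOfLE (Nat.le_succ n)).op) (hF (n + 1)) N
  let N : ∀ n, Nbhd ξ ξ' (F.obj (op n)) := fun n => Nat.rec (exists_nbhd_zero hs (hF 0)).some step n
  have hi := fun n => Lisse.isIso_sec_germ ξ (N n).α (N n).y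
  have hi' := fun n => Lisse.isIso_sec_germ ξ' (N n).α (N n).y'
  let e : ∀ n, (EtModW.stalk Λ ξ).obj (F.obj (op n)) ≅ (EtModW.stalk Λ ξ').obj (F.obj (op n)) := fun n =>
    (@asIso _ _ _ _ _ (hi n)).symm ≪≫ @asIso _ _ _ _ _ (hi' n)
  have hsucc : ∀ n, (EtModW.stalk Λ ξ).map (F.map (homOfLE (Nat.le_succ n)).op) ≫ (e n).hom =
      (e (n + 1)).hom ≫ (EtModW.stalk Λ ξ').map (F.map (homOfLE (Nat.le_succ n)).op) := by
    intro n
    obtain ⟨g, h, h1, h2, h3⟩ := hstep n (N n)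
    apply (@IsIso.epi_of_iso _ _ _ _ _ (hi (n + 1))).left_cancellation
    refine (Category.assoc _ _ _).symm.trans ((congrArg (fun k => k ≫ (e n).hom)
      (rel_germ _ h g (N (n + 1)).y (N n).y h1 h3)).trans ?_)
    exact (iso_step₁ h _ _ (hi n) (hi' n)).trans ((rel_germ _ h g (N (n + 1)).y' (N n).y' h2 h3).symm.trans
      (iso_step₂ _ _ (hi (n + 1)) (hi' (n + 1)) _).symm)
  refine ⟨NatIso.ofComponents (fun n => e n.unop) fun {a b} f => ?_⟩
  obtain ⟨a⟩ := a
  obtain ⟨b⟩ := b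
  rw [show f = (homOfLE (leOfHom f.unop)).op from Subsingleton.elim _ _]
  generalize leOfHom f.unop = hle
  clear f
  show (EtModW.stalk Λ ξ).map (F.map (homOfLE hle).op) ≫ (e b).hom =
    (e a).hom ≫ (EtModW.stalk Λ ξ').map (F.map (homOfLE hle).op)
  induction a, hle using Nat.le_induction with
  | base => simp
  | succ a hle ih =>
    rw [show (homOfLE (hle.trans (Nat.le_succ a))).op = (homOfLE (Nat.le_succ a)).op ≫ (homOfLE hle).op from
      Subsingleton.elim _ _, F.map_comp, Functor.map_comp, Functor.map_comp, Category.assoc, ih,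
      ← Category.assoc, hsucc, Category.assoc]

theorem nonempty_iso_of_connected [AlgebraicGeometry.IsNoetherian X] [ConnectedSpace X]
    (hF : ∀ n : ℕ, EtModW.IsFTLocConst Λ (F.obj (op n))) (ξ : Spec (CommRingCat.of Ω) ⟶ X)
    (ξ' : Spec (CommRingCat.of Ω') ⟶ X) :
    Nonempty ((F ⋙ EtModW.stalk Λ ξ) ≅ (F ⋙ EtModW.stalk Λ ξ')) := by
  let A : Set X := {x | ∀ (Ω₁ : Type u) [Field Ω₁] [IsSepClosed Ω₁] (η : Spec (CommRingCat.of Ω₁) ⟶ X),
    η.base default = x → Nonempty ((F ⋙ EtModW.stalk Λ ξ) ≅ (F ⋙ EtModW.stalk Λ η))}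
  have hiff : ∀ {x y : X}, x ⤳ y → (x ∈ A ↔ y ∈ A) := by
    intro x y hxy
    constructor
    · intro hx Ω₁ _ _ η hη
      obtain ⟨Ω₂, _, _, θ, hθ⟩ := Groth.L27.EtSite.exists_geometric_point x
      obtain ⟨e⟩ := hx Ω₂ θ hθ
      obtain ⟨e'⟩ := nonempty_iso_of_specializes (ξ := θ) (ξ' := η) (hθ.symm ▸ hη.symm ▸ hxy) hF
      exact ⟨e ≪≫ e'⟩
    · intro hy Ω₁ _ _ η hη
      obtain ⟨Ω₂, _, _, θ, hθ⟩ := Groth.L27.EtSite.exists_geometric_point y
      obtain ⟨e⟩ := hy Ω₂ θ hθ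
      obtain ⟨e'⟩ := nonempty_iso_of_specializes (ξ := η) (ξ' := θ) (hθ.symm ▸ hη.symm ▸ hxy) hF
      exact ⟨e ≪≫ e'.symm⟩
  have hclosed : ∀ S : Set X, (∀ {x y : X}, x ⤳ y → (x ∈ S ↔ y ∈ S)) → IsClosed S := by
    intro S hS
    have e : S = ⋃ Z ∈ {Z ∈ irreducibleComponents X | (Z ∩ S).Nonempty}, Z := by
      ext x
      constructor
      · intro hx
        exact Set.mem_biUnion ⟨irreducibleComponent_mem_irreducibleComponents x, x, mem_irreducibleComponent, hx⟩
          mem_irreducibleComponent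
      · intro hx
        obtain ⟨Z, ⟨hZ, z, hzZ, hzS⟩, hxZ⟩ := Set.mem_iUnion₂.1 hx
        have hgen : IsGenericPoint hZ.1.genericPoint Z := by
          have := hZ.1.isGenericPoint_genericPoint_closure
          rwa [(isClosed_of_mem_irreducibleComponents Z hZ).closure_eq] at this
        exact (hS (hgen.specializes hxZ)).1 ((hS (hgen.specializes hzZ)).2 hzS)
    rw [e]
    exact (TopologicalSpace.NoetherianSpace.finite_irreducibleComponents.subset fun Z hZ => hZ.1).isClosed_biUnion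
      fun Z hZ => isClosed_of_mem_irreducibleComponents Z hZ.1
  have hne : ξ.base default ∈ A := fun Ω₁ _ _ η hη =>
    nonempty_iso_of_specializes (ξ := ξ) (ξ' := η) (by rw [hη]) hF
  have hA : IsClopen A := ⟨hclosed A hiff, isClosed_compl_iff.1 (hclosed Aᶜ fun h => not_congr (hiff h))⟩
  exact (hA.eq_univ ⟨_, hne⟩ ▸ Set.mem_univ (ξ'.base default) : ξ'.base default ∈ A) Ω' ξ' rfl

/-- vanishing at one geometric point propagates -/
theorem eq_zero_of_stalk [AlgebraicGeometry.IsNoetherian X] [ConnectedSpace X] {A B : EtModW.Mod Λ X} (f : A ⟶ B)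
    (hA : EtModW.IsFTLocConst Λ A) (hB : EtModW.IsFTLocConst Λ B) (ξ : Spec (CommRingCat.of Ω) ⟶ X)
    (h : (EtModW.stalk Λ ξ).map f = 0) (ξ' : Spec (CommRingCat.of Ω') ⟶ X) : (EtModW.stalk Λ ξ').map f = 0 := by
  let S : ℕ → EtModW.Mod Λ X := fun n => match n with | 0 => B | _ + 1 => A
  let T : ∀ n, S (n + 1) ⟶ S n := fun n => match n with | 0 => f | _ + 1 => 𝟙 A
  obtain ⟨e⟩ := nonempty_iso_of_connected (F := Functor.ofOpSequence T)
    (fun n => by cases n with | zero => exact hB | succ n => exact hA) ξ ξ'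
  have h1 := e.inv.naturality (homOfLE (Nat.le_succ 0)).op
  simp only [Functor.comp_map, Functor.ofOpSequence_map_homOfLE_succ] at h1
  have h2 : (EtModW.stalk Λ ξ').map f ≫ e.inv.app (op 0) = 0 := h1.trans (by
    show e.inv.app (op 1) ≫ (EtModW.stalk Λ ξ).map f = 0
    exact (congrArg (fun k => e.inv.app (op 1) ≫ k) h).trans comp_zero)
  exact (cancel_mono (e.inv.app (op 0))).1 (h2.trans zero_comp.symm)

end Groth.L28.Noeth
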