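import Groth.Agent.L28.Noeth.Connected
import Groth.Agent.L28.Noeth.AR
import Groth.Agent.L28.AR.Detect
import Groth.Agent.L28.AR.QuotExist
import Groth.Agent.L28.Lisse.Main
import Groth.Agent.L28.Pts.Linear

/-!
On a connected Noetherian scheme adicity up to translation of a system of locally constant sheaves is
detected at one geometric point.
-/

set_option autoImplicit false

universe u

open CategoryTheory CategoryTheory.Limits AlgebraicGeometry Opposite

set_option backward.isDefEq.respectTransparency.types false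

namespace Groth.L28.Noeth

variable {Λ : Type (u + 1)} [CommRing Λ] [IsNoetherianRing Λ] {I : Ideal Λ} {X : Scheme.{u}}
  [AlgebraicGeometry.IsNoetherian X]

theorem eq_zero_of_stalks {A B : EtModW.Mod Λ X} (f : A ⟶ B)
    (h : ∀ (Ω : Type u) [Field Ω] [IsSepClosed Ω] (x : Spec (CommRingCat.of Ω) ⟶ X),
      (EtModW.stalk Λ x).map f = 0) : f = 0 := by
  have hz : IsZero (Abelian.image f) := isZero_of_stalks fun Ω _ _ x => by
    have h1 : (EtModW.stalk Λ x).map (Abelian.factorThruImage f) ≫ (EtModW.stalk Λ x).map (Abelian.image.ι f) = 0 := by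
      rw [← Functor.map_comp, Abelian.image.fac, h Ω x]
    haveI : AB5OfSize.{u, u} (ModuleCat.{u + 1} Λ) := AB5OfSize_shrink.{u, u, u + 1, u + 1} _
    haveI : PreservesFiniteLimits (EtModW.stalk Λ x) :=
      inferInstanceAs (PreservesFiniteLimits (Scheme.pointSmallEtale x).sheafFiber)
    rw [IsZero.iff_id_eq_zero, ← cancel_mono ((EtModW.stalk Λ x).map (Abelian.image.ι f)), Category.id_comp,
      zero_comp, ← cancel_epi ((EtModW.stalk Λ x).map (Abelian.factorThruImage f)), comp_zero]
    exact h1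
  rw [← Abelian.image.fac f, hz.eq_of_tgt (Abelian.factorThruImage f) 0, zero_comp]

theorem isARAdic_of_stalk [ConnectedSpace X] {F : ARSys.PS (EtModW.Mod Λ X)}
    (hl : ∀ n : ℕ, EtModW.IsFTLocConst Λ (F.obj (op n))) (hk : ARSys.TermKilled I F)
    {Ω : Type u} [Field Ω] [IsSepClosed Ω] (s : Spec (CommRingCat.of Ω) ⟶ X)
    (h : ARSys.IsARAdic I (F ⋙ EtModW.stalk Λ s)) : ARSys.IsARAdic I F := by
  have hc := Lisse.closed_isFTLocConst (Λ := Λ) (X := X)
  exact AR.isARAdic_detect (ι := Unit) (fun _ => EtModW.stalk Λ s)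
    (fun G : EtModW.Mod Λ X => EtModW.IsFTLocConst Λ G)
    (fun f hA hB hf => eq_zero_of_stalks f fun _ _ _ x => eq_zero_of_stalk f hA hB s (hf ()) x)
    (fun e h => hc.of_iso e h) (fun f h h' => hc.ker f h h') (fun f h h' => hc.coker f h h')
    (fun A hA k => AR.exists_isQuot (fun G : EtModW.Mod Λ X => EtModW.IsFTLocConst Λ G)
      (fun f h => hc.coker f h h) (IsNoetherian.noetherian (I ^ k)) A hA)
    (Or.inl (IsNoetherian.noetherian I)) hk hl fun _ => h

end Groth.L28.Noeth
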