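import Groth.Agent.L28.Noeth.AR
import Groth.Agent.L28.AR.Detect

/-!
Adicity up to translation of constructible systems is local for jointly surjective families.
-/

set_option autoImplicit false

universe u

open CategoryTheory CategoryTheory.Limits AlgebraicGeometry Opposite

set_option backward.isDefEq.respectTransparency.types false

namespace Groth.L28.Noeth

open Groth.L28.AR

variable {Λ : Type (u + 1)} [CommRing Λ] [IsNoetherianRing Λ] {I : Ideal Λ} {X : Scheme.{u}}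

omit [IsNoetherianRing Λ] in
theorem eq_zero_of_pull {A B : EtModW.Mod Λ X} (f : A ⟶ B) {ι : Type*} (T : ι → Scheme.{u}) (g : ∀ i, T i ⟶ X)
    (hcov : ∀ x, ∃ i, x ∈ Set.range (g i)) (h : ∀ i, (EtModW.pull Λ (g i)).map f = 0) : f = 0 := by
  haveI : IsIso (kernel.ι f) := isIso_of_strata (kernel.ι f) T g hcov fun i => by
    haveI := Strata.preservesFiniteLimits_pullMod (Λ := Λ) (g i)
    haveI : IsIso (kernel.ι ((EtModW.pull Λ (g i)).map f)) :=
      ⟨kernel.lift _ (𝟙 _) (by rw [h i, comp_zero]),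
        by rw [← cancel_mono (kernel.ι ((EtModW.pull Λ (g i)).map f))]; simp, kernel.lift_ι _ _ _⟩
    rw [show (EtModW.pull Λ (g i)).map (kernel.ι f) =
      (PreservesKernel.iso (EtModW.pull Λ (g i)) f).hom ≫ kernel.ι ((EtModW.pull Λ (g i)).map f) by simp]
    infer_instance
  rw [← cancel_epi (kernel.ι f), kernel.condition, comp_zero]

theorem isARAdic_of_cover {F : ARSys.PS (EtModW.Mod Λ X)} (hk : ARSys.TermKilled I F) {ι : Type} [Finite ι]
    (T : ι → Scheme.{u}) (g : ∀ i, T i ⟶ X) (hcov : ∀ x, ∃ i, x ∈ Set.range (g i))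
    (h : ∀ i, ARSys.IsARAdic I (F ⋙ EtModW.pull Λ (g i))) : ARSys.IsARAdic I F :=
  isARAdic_detect (fun i => EtModW.pull Λ (g i)) (fun _ => True)
    (fun f _ _ hf => eq_zero_of_pull f T g hcov hf) (fun _ _ => trivial) (fun _ _ _ => trivial) (fun _ _ _ => trivial)
    (fun Y _ k => let ⟨Q, p, hp⟩ := exists_quot I (Or.inl (IsNoetherian.noetherian I)) k Y; ⟨Q, p, hp, trivial⟩)
    (Or.inl (IsNoetherian.noetherian I)) hk (fun _ => trivial) h

theorem isARAdic_pull {Y : Scheme.{u}} (f : Y ⟶ X) {F : ARSys.PS (EtModW.Mod Λ X)} (h : ARSys.IsARAdic I F) :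
    ARSys.IsARAdic I (F ⋙ EtModW.pull Λ f) := by
  obtain ⟨hk, P, v, hP, hv⟩ := h
  haveI := Strata.preservesFiniteLimits_pullMod (Λ := Λ) f
  exact ⟨termKilled_comp (EtModW.pull Λ f) hk, P ⋙ EtModW.pull Λ f, Functor.whiskerRight v (EtModW.pull Λ f),
    isAdic_comp (EtModW.pull Λ f) (Strata.pullPushAdjMod f) hP, isARIso_whiskerRight (EtModW.pull Λ f) hv⟩

theorem model_iff_cover [AlgebraicGeometry.IsNoetherian X] {F : ARSys.PS (EtModW.Mod Λ X)}
    (hc : ∀ n : ℕ, EtModW.IsConstructible Λ (F.obj (op n))) (hk : ARSys.TermKilled I F) {ι : Type} [Finite ι]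
    (T : ι → Scheme.{u}) [∀ i, AlgebraicGeometry.IsNoetherian (T i)] (g : ∀ i, T i ⟶ X)
    (hcov : ∀ x, ∃ i, x ∈ Set.range (g i)) :
    (ARSys.TermKilled I F ∧ ∃ (Y : ARSys.PS (EtModW.Mod Λ X)) (v : Y ⟶ F), ARSys.IsAdic I Y ∧
      (∀ n : ℕ, EtModW.IsConstructible Λ (Y.obj (op n))) ∧ ARSys.IsARIso v) ↔
    ∀ i, (ARSys.TermKilled I (F ⋙ EtModW.pull Λ (g i)) ∧ ∃ (Y : ARSys.PS (EtModW.Mod Λ (T i)))
      (v : Y ⟶ (F ⋙ EtModW.pull Λ (g i))), ARSys.IsAdic I Y ∧
      (∀ n : ℕ, EtModW.IsConstructible Λ (Y.obj (op n))) ∧ ARSys.IsARIso v) := by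
  constructor
  · rintro ⟨-, Y, v, hY, -, hv⟩ i
    exact exists_constructible_model (fun n => Strata.isConstructibleMod_pull (g i) (hc n))
      (isARAdic_pull (g i) ⟨hk, Y, v, hY, hv⟩)
  · intro h
    exact exists_constructible_model hc (isARAdic_of_cover hk T g hcov fun i =>
      let ⟨hk', Y, v, hY, _, hv⟩ := h i; ⟨hk', Y, v, hY, hv⟩)

end Groth.L28.Noeth
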