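import Groth.Agent.L28.Lisse.Rigid
import Groth.Agent.L28.LocConst.PullInst
import Groth.Agent.L28.LocConst.Serre
import Groth.Agent.L28.LocConst.Stalks
import Mathlib.AlgebraicGeometry.Noetherian
import Mathlib.Topology.NoetherianSpace

/-!
Subsheaves of locally constant sheaves of modules are locally constant on a nonempty open.
-/

set_option autoImplicit false

universe u

open CategoryTheory CategoryTheory.Limits AlgebraicGeometry Opposite GrothendieckTopology

set_option backward.isDefEq.respectTransparency.types false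

namespace Groth.L28.Noeth

open Groth.L28.LocConst

variable {Λ : Type (u + 1)} [CommRing Λ] {X : Scheme.{u}}

theorem sections_injective {F G : EtModW.Mod Λ X} (b : G ⟶ F) [Mono b] (V : X.Etale) :
    Function.Injective (b.hom.app (op V)) :=
  (ModuleCat.mono_iff_injective _).1
    (inferInstanceAs (Mono ((((evaluation _ _).obj (op V))).map ((sheafToPresheaf _ _).map b))))

theorem rs_comp (F : EtModW.Mod Λ X) {U V W : X.Etale} (g : U ⟶ V) (f : V ⟶ W) (t : F.obj.obj (op W)) :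
    rs F (g ≫ f) t = rs F g (rs F f t) := by
  show F.obj.map (g ≫ f).op t = F.obj.map g.op (F.obj.map f.op t)
  rw [op_comp, F.obj.map_comp]
  rfl

theorem rs_natural {F G : EtModW.Mod Λ X} (b : G ⟶ F) {V W : X.Etale} (f : V ⟶ W) (t : G.obj.obj (op W)) :
    b.hom.app (op V) (rs G f t) = rs F f (b.hom.app (op W) t) :=
  NatTrans.naturality_apply b.hom f.op t

theorem etale_left {V W : X.Etale} (f : V ⟶ W) : AlgebraicGeometry.Etale f.left :=
  EtCoh.etaleMP.of_postcomp (W' := EtCoh.etaleMP) f.left W.hom W.prop (by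
    rw [show f.left ≫ W.hom = V.hom from MorphismProperty.Over.w f]; exact V.prop)

theorem exists_refinement {W V₁ V₂ : X.Etale} (hW : PreirreducibleSpace W.left) (f₁ : V₁ ⟶ W) (f₂ : V₂ ⟶ W)
    (v₁ : V₁.left) (v₂ : V₂.left) :
    ∃ (V : X.Etale) (g₁ : V ⟶ V₁) (g₂ : V ⟶ V₂) (_ : V.left), g₁ ≫ f₁ = g₂ ≫ f₂ := by
  haveI := etale_left f₁
  haveI := etale_left f₂
  obtain ⟨w, -, ⟨x₁, h₁⟩, ⟨x₂, h₂⟩⟩ := hW.isPreirreducible_univ _ _ f₁.left.isOpenMap.isOpen_range
    f₂.left.isOpenMap.isOpen_range ⟨_, trivial, v₁, rfl⟩ ⟨_, trivial, v₂, rfl⟩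
  obtain ⟨z, -, -⟩ := Scheme.Pullback.exists_preimage_pullback (f := f₁.left) (g := f₂.left) x₁ x₂ (h₁.trans h₂.symm)
  have hV : EtCoh.etaleMP (pullback.fst f₁.left f₂.left ≫ V₁.hom) :=
    EtCoh.etaleMP.comp_mem _ _ (show EtCoh.etaleMP (pullback.fst f₁.left f₂.left) from
      inferInstanceAs (AlgebraicGeometry.Etale (pullback.fst f₁.left f₂.left))) V₁.prop
  refine ⟨MorphismProperty.Over.mk ⊤ (pullback.fst f₁.left f₂.left ≫ V₁.hom) hV,
    MorphismProperty.Over.homMk (pullback.fst f₁.left f₂.left) rfl,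
    MorphismProperty.Over.homMk (pullback.snd f₁.left f₂.left) ?_, z, ?_⟩
  · show pullback.snd f₁.left f₂.left ≫ V₂.hom = pullback.fst f₁.left f₂.left ≫ V₁.hom
    rw [← MorphismProperty.Over.w f₁, ← MorphismProperty.Over.w f₂, ← Category.assoc, ← Category.assoc,
      pullback.condition]
  · exact MorphismProperty.Over.Hom.ext pullback.condition

/-- the morphism out of a constant sheaf given by sections -/
noncomputable def secHom {G : EtModW.Mod Λ X} {V : X.Etale} {N : ModuleCat.{u + 1} Λ} (l : N ⟶ G.obj.obj (op V)) :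
    (constOver V).obj N ⟶ EtModW.restr Λ G V :=
  ofSec (G := EtModW.restr Λ G V) l

theorem cs_secHom {G : EtModW.Mod Λ X} {V : X.Etale} {N : ModuleCat.{u + 1} Λ} (l : N ⟶ G.obj.obj (op V))
    (U : Over V) :
    cs (X.smallEtaleTopology.over V) N U ≫ (secHom l).hom.app (op U) = l ≫ G.obj.map U.hom.op :=
  cs_ofSec (G := EtModW.restr Λ G V) l U

theorem secHom_ext {G : EtModW.Mod Λ X} {V : X.Etale} {N : ModuleCat.{u + 1} Λ}
    {φ : (constOver V).obj N ⟶ EtModW.restr Λ G V} {l : N ⟶ G.obj.obj (op V)}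
    (h : cs (X.smallEtaleTopology.over V) N (top V) ≫ φ.hom.app (op (top V)) = l) : φ = secHom l :=
  hom_ext_top (h.trans (cs_top_ofSec (G := EtModW.restr Λ G V) l).symm)

theorem secHom_map {G G' : EtModW.Mod Λ X} {V : X.Etale} {N : ModuleCat.{u + 1} Λ} (l : N ⟶ G.obj.obj (op V))
    (φ : G ⟶ G') : secHom l ≫ (res V).map φ = secHom (l ≫ φ.hom.app (op V)) :=
  secHom_ext ((Category.assoc _ _ _).symm.trans
    (congrArg (fun k : N ⟶ (EtModW.restr Λ G V).obj.obj (op (top V)) => k ≫ φ.hom.app (op V))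
      (cs_top_ofSec (G := EtModW.restr Λ G V) l)))

theorem map_secHom {G : EtModW.Mod Λ X} {V : X.Etale} {N N' : ModuleCat.{u + 1} Λ} (c : N' ⟶ N)
    (l : N ⟶ G.obj.obj (op V)) : (constOver V).map c ≫ secHom l = secHom (c ≫ l) := by
  refine secHom_ext ((Category.assoc _ _ _).symm.trans ?_)
  refine (congrArg (fun k => k ≫ (secHom l).hom.app (op (top V))) (cs_app c (top V))).trans ?_
  refine (Category.assoc _ _ _).trans (congrArg (fun k => c ≫ k) ?_)
  exact cs_top_ofSec (G := EtModW.restr Λ G V) l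

theorem map_inv_eq_secHom {F : EtModW.Mod Λ X} {V : X.Etale} {N N' : ModuleCat.{u + 1} Λ} (c : N' ⟶ N)
    (α : EtModW.restr Λ F V ≅ (constOver V).obj N) :
    (constOver V).map c ≫ α.inv = secHom (c ≫ sec α) := by
  refine secHom_ext ((Category.assoc _ _ _).symm.trans ?_)
  exact (congrArg (fun k => k ≫ α.inv.hom.app (op (top V))) (cs_app c (top V))).trans (Category.assoc _ _ _)

variable {F G : EtModW.Mod Λ X} (b : G ⟶ F) {W : X.Etale} {M : ModuleCat.{u + 1} Λ}
  (α : EtModW.restr Λ F W ≅ (constOver W).obj M)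

/-- a value is attained by the subsheaf on some nonempty neighbourhood -/
def Hit (m : M) : Prop :=
  ∃ (V : X.Etale) (f : V ⟶ W) (_ : V.left) (s : G.obj.obj (op V)), b.hom.app (op V) s = rs F f (sec α m)

/-- the values attained by a subsheaf -/
def hits (hW : IrreducibleSpace W.left) : Submodule Λ M where
  carrier := {m | Hit b α m}
  zero_mem' := ⟨W, 𝟙 W, hW.toNonempty.some, 0, by simp⟩
  add_mem' := by
    rintro m₁ m₂ ⟨V₁, f₁, v₁, s₁, h₁⟩ ⟨V₂, f₂, v₂, s₂, h₂⟩
    obtain ⟨V, g₁, g₂, v, hg⟩ := exists_refinement hW.toPreirreducibleSpace f₁ f₂ v₁ v₂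
    refine ⟨V, g₁ ≫ f₁, v, rs G g₁ s₁ + rs G g₂ s₂, ?_⟩
    rw [map_add, rs_natural, rs_natural, h₁, h₂, ← rs_comp, ← rs_comp, ← hg, map_add, map_add]
  smul_mem' := by
    rintro c m ⟨V, f, v, s, h⟩
    exact ⟨V, f, v, c • s, by rw [map_smul, h, map_smul, map_smul]⟩

theorem exists_all_hits (hW : IrreducibleSpace W.left) [IsNoetherianRing Λ] [Module.Finite Λ M] :
    ∃ (V : X.Etale) (f : V ⟶ W) (_ : V.left),
      ∀ m ∈ hits b α hW, ∃ s : G.obj.obj (op V), b.hom.app (op V) s = rs F f (sec α m) := by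
  classical
  haveI : IsNoetherian Λ M := isNoetherian_of_isNoetherianRing_of_finite Λ M
  obtain ⟨S, hS⟩ := IsNoetherian.noetherian (hits b α hW)
  have key : ∀ T : Finset M, (T : Set M) ⊆ hits b α hW → ∃ (V : X.Etale) (f : V ⟶ W) (_ : V.left),
      ∀ m ∈ T, ∃ s : G.obj.obj (op V), b.hom.app (op V) s = rs F f (sec α m) := by
    intro T
    induction T using Finset.induction_on with
    | empty => exact fun _ => ⟨W, 𝟙 W, hW.toNonempty.some, fun m hm => absurd hm (Finset.notMem_empty m)⟩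
    | insert a T _ ih =>
      intro hT
      rw [Finset.coe_insert, Set.insert_subset_iff] at hT
      obtain ⟨V₁, f₁, v₁, h₁⟩ := ih hT.2
      obtain ⟨V₂, f₂, v₂, s₂, h₂⟩ := hT.1
      obtain ⟨V, g₁, g₂, v, hg⟩ := exists_refinement hW.toPreirreducibleSpace f₁ f₂ v₁ v₂
      refine ⟨V, g₁ ≫ f₁, v, fun m hm => ?_⟩
      rcases Finset.mem_insert.1 hm with rfl | hm
      · exact ⟨rs G g₂ s₂, by rw [rs_natural, h₂, ← rs_comp, hg]⟩
      · obtain ⟨s, hs⟩ := h₁ m hm
        exact ⟨rs G g₁ s, by rw [rs_natural, hs, ← rs_comp]⟩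
  obtain ⟨V, f, v, h⟩ := key S (hS ▸ Submodule.subset_span)
  refine ⟨V, f, v, fun m hm => ?_⟩
  rw [← hS] at hm
  induction hm using Submodule.span_induction with
  | mem x hx => exact h x hx
  | zero => exact ⟨0, by simp⟩
  | add x y _ _ hx hy =>
    obtain ⟨s, hs⟩ := hx
    obtain ⟨t, ht⟩ := hy
    exact ⟨s + t, by rw [map_add, hs, ht, map_add, map_add]⟩
  | smul c x _ hx =>
    obtain ⟨s, hs⟩ := hx
    exact ⟨c • s, by rw [map_smul, hs, map_smul, map_smul]⟩

/-- a subsheaf is trivialised by the values it attains -/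
theorem isIso_ofSec [Mono b] (hW : IrreducibleSpace W.left) {V : X.Etale} (f : V ⟶ W)
    (l : ModuleCat.of Λ (hits b α hW) ⟶ G.obj.obj (op V))
    (hl : ∀ m, b.hom.app (op V) (l m) = rs F f (sec α m.1)) :
    IsIso (secHom l) := by
  haveI : AB5OfSize.{u, u} (ModuleCat.{u + 1} Λ) := AB5OfSize_shrink.{u, u, u + 1, u + 1} _
  have e : secHom l ≫ (res V).map b =
      (constOver V).map (ModuleCat.ofHom (hits b α hW).subtype) ≫ (restrIso f α).inv := by
    rw [secHom_map, map_inv_eq_secHom]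
    refine congrArg secHom (ConcreteCategory.hom_ext _ _ fun m => ?_)
    rw [sec_restrIso]
    exact hl m
  haveI : Mono (ModuleCat.ofHom (hits b α hW).subtype) :=
    (ModuleCat.mono_iff_injective _).2 (hits b α hW).subtype_injective
  haveI : Mono (secHom l ≫ (res V).map b) := by rw [e]; infer_instance
  haveI := mono_of_mono (secHom l) ((res V).map b)
  refine isIso_over_of_stalks _ fun Ω _ _ ξ y => (ConcreteCategory.isIso_iff_bijective _).2
    ⟨(ModuleCat.mono_iff_injective _).1 (((Scheme.pointSmallEtale ξ).over y).sheafFiber.map_mono _), fun x => ?_⟩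
  let Φ := (Scheme.pointSmallEtale ξ).over y
  obtain ⟨U, z, t, rfl⟩ := Φ.toPresheafFiber_jointly_surjective x
  let β := restrIso (U.hom ≫ f) α
  obtain ⟨m, hm⟩ := ((ConcreteCategory.isIso_iff_bijective _).1 (Lisse.isIso_sec_germ ξ β z.1)).2
    ((Scheme.pointSmallEtale ξ).toPresheafFiber U.left z.1 F.obj (b.hom.app (op U.left) t))
  obtain ⟨U', c, z', hz', hc⟩ := ((Scheme.pointSmallEtale ξ).toPresheafFiber_eq_iff' _ _ _ _).1
    (show (Scheme.pointSmallEtale ξ).toPresheafFiber U.left z.1 F.obj (sec β m) = _ from hm)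
  have hc' : b.hom.app (op U') (rs G c t) = rs F ((c ≫ U.hom) ≫ f) (sec α m) := by
    rw [rs_natural, Category.assoc, rs_comp]
    refine hc.symm.trans ?_
    refine congrArg (rs F c) ?_
    exact ConcreteCategory.congr_hom (sec_restrIso (U.hom ≫ f) α) m
  have hN : m ∈ hits b α hW := ⟨U', (c ≫ U.hom) ≫ f, z'.left.base (default : Spec (CommRingCat.of Ω)), rs G c t, hc'⟩
  have ht : rs G c t = rs G (c ≫ U.hom) (l ⟨m, hN⟩) := by
    refine sections_injective b U' ?_
    rw [hc', rs_natural, hl, ← rs_comp]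
  let U'' : Over V := Over.mk (c ≫ U.hom)
  have hz'' : (Scheme.pointSmallEtale ξ).fiber.map (c ≫ U.hom) z' = y := by
    rw [Functor.map_comp]
    show (Scheme.pointSmallEtale ξ).fiber.map U.hom ((Scheme.pointSmallEtale ξ).fiber.map c z') = y
    rw [hz']
    exact z.2
  let z'' : Φ.fiber.obj U'' := ⟨z', hz''⟩
  let p : U'' ⟶ U := Over.homMk c
  have hp : Φ.fiber.map p z'' = z := Subtype.ext hz'
  refine ⟨Φ.toPresheafFiber U'' z'' ((constOver V).obj (ModuleCat.of Λ (hits b α hW))).obj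
    (cs (X.smallEtaleTopology.over V) (ModuleCat.of Λ (hits b α hW)) U'' ⟨m, hN⟩), ?_⟩
  refine (GrothendieckTopology.Point.toPresheafFiber_naturality_apply Φ
    (secHom l).hom U'' z'' _).trans ?_
  rw [← hp, ← GrothendieckTopology.Point.toPresheafFiber_w_apply]
  refine congrArg _ ((ConcreteCategory.congr_hom (cs_secHom l U'') ⟨m, hN⟩).trans ?_)
  exact ht.symm

theorem exists_trivial [Mono b] (hW : IrreducibleSpace W.left) [IsNoetherianRing Λ] [Module.Finite Λ M] :
    ∃ (V : X.Etale) (f : V ⟶ W) (_ : V.left) (l : ModuleCat.of Λ (hits b α hW) ⟶ G.obj.obj (op V)),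
      ∀ m, b.hom.app (op V) (l m) = rs F f (sec α m.1) := by
  obtain ⟨V, f, v, h⟩ := exists_all_hits b α hW
  have hinj := sections_injective b V
  let r : hits b α hW →ₗ[Λ] F.obj.obj (op V) := (rs F f).hom ∘ₗ (sec α).hom ∘ₗ (hits b α hW).subtype
  have hr : ∀ m, r m ∈ LinearMap.range (b.hom.app (op V)).hom := fun m => h m.1 m.2
  refine ⟨V, f, v, ModuleCat.ofHom ((LinearEquiv.ofInjective (b.hom.app (op V)).hom hinj).symm.toLinearMap ∘ₗ
    r.codRestrict _ hr), fun m => ?_⟩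
  exact congrArg Subtype.val ((LinearEquiv.ofInjective (b.hom.app (op V)).hom hinj).apply_symm_apply ⟨r m, hr m⟩)

/-- the image of an etale scheme -/
def image (V : X.Etale) : X.Opens :=
  ⟨Set.range V.hom, by haveI : AlgebraicGeometry.Etale V.hom := V.prop; exact V.hom.isOpenMap.isOpen_range⟩

theorem mem_image_generic [IrreducibleSpace X] (V : X.Etale) (v : V.left) : genericPoint X ∈ image V :=
  ((genericPoint_spec X).mem_open_set_iff (image V).2).2 ⟨_, trivial, v, rfl⟩

theorem covers_image (V : X.Etale) :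
    EtCoh.Covers fun _ : PUnit.{u + 1} => (EtCoh.bc (image V).ι).obj V := fun x => by
  obtain ⟨v, hv⟩ := x.2
  obtain ⟨z, -, hz⟩ := Scheme.Pullback.exists_preimage_pullback (f := V.hom) (g := (image V).ι) v x hv
  exact ⟨⟨⟩, z, hz⟩

theorem isFTLocConst_image {V : X.Etale} {N : ModuleCat.{u + 1} Λ} [Module.Finite Λ N]
    (β : EtModW.restr Λ G V ≅ (constOver V).obj N) :
    EtModW.IsFTLocConst Λ ((EtModW.pull Λ (image V).ι).obj G) :=
  ⟨PUnit, _, covers_image V, fun _ => ⟨N, inferInstance, inferInstance, inferInstance,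
    nonempty_pull_over_iso_const (image V).ι G β⟩⟩

theorem isIso_pull_image {G' : EtModW.Mod Λ X} (φ : G ⟶ G') {V : X.Etale}
    (h : IsIso ((res V).map φ)) : IsIso ((EtModW.pull Λ (image V).ι).map φ) := by
  haveI : AB5OfSize.{u, u} (ModuleCat.{u + 1} Λ) := AB5OfSize_shrink.{u, u, u + 1, u + 1} _
  have hb : ∀ (Ω : Type u) [Field Ω] [IsSepClosed Ω] (ξ : Spec (CommRingCat.of Ω) ⟶ (image V : Scheme.{u})),
      Function.Bijective ((EtModW.stalk Λ ξ).map ((EtModW.pull Λ (image V).ι).map φ)) := by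
    intro Ω _ _ ξ
    obtain ⟨v, hv⟩ := (ξ.base default).2
    obtain ⟨y, -⟩ := Groth.L27.EtSite.exists_fiber (ξ ≫ (image V).ι) V v hv
    have h1 : IsIso ((EtModW.stalk Λ (ξ ≫ (image V).ι)).map φ) :=
      ((MorphismProperty.isomorphisms _).arrow_mk_iso_iff
        (((Functor.mapArrowFunctor _ _).mapIso
          (Pts.sheafFiberOverIso (A := ModuleCat.{u + 1} Λ) (Scheme.pointSmallEtale (ξ ≫ (image V).ι)) y)).app (Arrow.mk φ))).1
        (Functor.map_isIso (((Scheme.pointSmallEtale (ξ ≫ (image V).ι)).over y).sheafFiber) ((res V).map φ))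
    exact (ConcreteCategory.isIso_iff_bijective _).1 (((MorphismProperty.isomorphisms _).arrow_mk_iso_iff
        (((Functor.mapArrowFunctor _ _).mapIso (EtModStalk.stalkPullModIso (image V).ι ξ)).app (Arrow.mk φ))).2 h1)
  exact (Sheaf.isLocallyBijective_iff_isIso _).1
    ⟨Groth.L27.EtSite.isLocallyInjective_of_stalks _ fun Ω _ _ ξ => (hb Ω ξ).1,
      Groth.L27.EtSite.isLocallySurjective_of_stalks _ fun Ω _ _ ξ => (hb Ω ξ).2⟩

theorem isFTLocConst_exists_irreducible [IsLocallyNoetherian X] [Nonempty X] (hF : EtModW.IsFTLocConst Λ F) :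
    ∃ (W : X.Etale) (_ : IrreducibleSpace W.left) (M : ModuleCat.{u + 1} Λ) (_ : Module.Finite Λ M),
      Nonempty (EtModW.restr Λ F W ≅ (constOver W).obj M) := by
  obtain ⟨ι, U, hU, h⟩ := hF
  obtain ⟨i, z, -⟩ := hU (Classical.arbitrary X)
  haveI : AlgebraicGeometry.Etale (U i).hom := (U i).prop
  haveI : IsLocallyNoetherian (U i).left := (@LocallyOfFiniteType.isLocallyNoetherian (U i).left X (U i).hom inferInstance inferInstance :)
  obtain ⟨A, hA, hzA, -⟩ := Strata.exists_affine (X := (U i).left) (Set.mem_univ z) isOpen_univ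
  haveI : CompactSpace A := isCompact_iff_compactSpace.1 hA.isCompact
  haveI : IsNoetherian (A : Scheme.{u}) := {}
  obtain ⟨O, hO, hne, hOZ⟩ := @TopologicalSpace.NoetherianSpace.exists_isOpen_nonempty_subset_irreducibleComponent
    A _ (IsNoetherian.noetherianSpace (X := (A : Scheme.{u}))) (irreducibleComponent (⟨z, hzA⟩ : A)) (irreducibleComponent_mem_irreducibleComponents _)
  let O' : (A : Scheme.{u}).Opens := ⟨O, hO⟩
  let W : X.Etale := MorphismProperty.Over.mk ⊤ ((O'.ι ≫ A.ι) ≫ (U i).hom)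
    (EtCoh.etaleMP.comp_mem _ _ (show EtCoh.etaleMP (O'.ι ≫ A.ι) from
      inferInstanceAs (AlgebraicGeometry.Etale (O'.ι ≫ A.ι))) (U i).prop)
  obtain ⟨M, _, _, hM, ⟨α⟩⟩ := h i
  refine ⟨W, Subtype.irreducibleSpace ⟨hne, (isIrreducible_irreducibleComponent).2.open_subset hO hOZ⟩,
    ModuleCat.of Λ M, hM, ⟨restrIso (MorphismProperty.Over.homMk (O'.ι ≫ A.ι) rfl : W ⟶ U i) α⟩⟩

variable [IsNoetherianRing Λ] [IsLocallyNoetherian X] [IrreducibleSpace X]

omit W M α in
theorem exists_open_sub [Mono b] (hF : EtModW.IsFTLocConst Λ F) :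
    ∃ O : X.Opens, genericPoint X ∈ O ∧ EtModW.IsFTLocConst Λ ((EtModW.pull Λ O.ι).obj G) := by
  obtain ⟨W, hW, M, hM, ⟨α⟩⟩ := isFTLocConst_exists_irreducible hF
  obtain ⟨V, f, v, l, hl⟩ := exists_trivial b α hW
  haveI := isIso_ofSec b α hW f l hl
  haveI : IsNoetherian Λ M := isNoetherian_of_isNoetherianRing_of_finite Λ M
  haveI : Module.Finite Λ (ModuleCat.of Λ (hits b α hW)) := inferInstanceAs (Module.Finite Λ (hits b α hW))
  exact ⟨image V, mem_image_generic V v, isFTLocConst_image (asIso (secHom l)).symm⟩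

omit W M α G b in
theorem exists_open_stationary (hF : EtModW.IsFTLocConst Λ F) (G : ℕ → EtModW.Mod Λ X)
    (i : ∀ k, G k ⟶ G (k + 1)) (b : ∀ k, G k ⟶ F) [∀ k, Mono (b k)] (hib : ∀ k, i k ≫ b (k + 1) = b k) :
    ∃ (O : X.Opens) (k₀ : ℕ), genericPoint X ∈ O ∧ ∀ k, k₀ ≤ k → IsIso ((EtModW.pull Λ O.ι).map (i k)) := by
  obtain ⟨W, hW, M, hM, ⟨α⟩⟩ := isFTLocConst_exists_irreducible hF
  haveI : IsNoetherian Λ M := isNoetherian_of_isNoetherianRing_of_finite Λ M
  let N : ℕ →o Submodule Λ M := ⟨fun k => hits (b k) α hW, monotone_nat_of_le_succ fun k m hm => by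
    obtain ⟨V, f, v, s, h⟩ := hm
    exact ⟨V, f, v, (i k).hom.app (op V) s, by
      rw [← ConcreteCategory.comp_apply]
      exact (ConcreteCategory.congr_hom (congrArg (fun φ : G k ⟶ F => φ.hom.app (op V)) (hib k)) s).trans h⟩⟩
  obtain ⟨k₀, hk₀⟩ := monotone_stabilizes_iff_noetherian.2 ‹_› N
  obtain ⟨V, f, v, l, hl⟩ := exists_trivial (b k₀) α hW
  let N₀ := hits (b k₀) α hW
  have key : ∀ k, k₀ ≤ k → ∃ l' : ModuleCat.of Λ N₀ ⟶ (G k).obj.obj (op V),
      ∀ m : N₀, (b k).hom.app (op V) (l' m) = rs F f (sec α m.1) := by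
    intro k hk
    induction k, hk using Nat.le_induction with
    | base => exact ⟨l, hl⟩
    | succ k hk ih =>
      obtain ⟨l', hl'⟩ := ih
      exact ⟨l' ≫ (i k).hom.app (op V), fun m =>
        (ConcreteCategory.congr_hom (congrArg (fun φ : G k ⟶ F => φ.hom.app (op V)) (hib k)) (l' m)).trans (hl' m)⟩
  have hiso : ∀ k, k₀ ≤ k → ∀ (l' : ModuleCat.of Λ N₀ ⟶ (G k).obj.obj (op V)),
      (∀ m : N₀, (b k).hom.app (op V) (l' m) = rs F f (sec α m.1)) → IsIso (secHom l') := by
    intro k hk l' hl'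
    have e : hits (b k) α hW = N₀ := (hk₀ k hk).symm
    let c : ModuleCat.of Λ (hits (b k) α hW) ≅ ModuleCat.of Λ N₀ := (LinearEquiv.ofEq _ _ e).toModuleIso
    haveI := isIso_ofSec (b k) α hW f (c.hom ≫ l') fun m => hl' _
    haveI : IsIso ((constOver V).map c.hom ≫ secHom l') := by rw [map_secHom]; infer_instance
    exact IsIso.of_isIso_comp_left ((constOver V).map c.hom) _
  refine ⟨image V, k₀, mem_image_generic V v, fun k hk => ?_⟩
  obtain ⟨l', hl'⟩ := key k hk
  let l'' : ModuleCat.of Λ N₀ ⟶ (G (k + 1)).obj.obj (op V) := l' ≫ (i k).hom.app (op V)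
  haveI := hiso k hk l' hl'
  haveI : IsIso (secHom l'') := hiso (k + 1) (by omega) l'' fun m =>
    (ConcreteCategory.congr_hom (congrArg (fun φ : G k ⟶ F => φ.hom.app (op V)) (hib k)) (l' m)).trans (hl' m)
  haveI : IsIso (secHom l' ≫ (res V).map (i k)) := by rw [secHom_map]; infer_instance
  exact isIso_pull_image (i k) (IsIso.of_isIso_comp_left (secHom l') _)

end Groth.L28.Noeth
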